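import Groth.Agent.CMReg7.Gen

/-!
# Twisted pullbacks from the base generate the quasi-coherent modules of `P^n_T`
-/

set_option autoImplicit false
set_option linter.style.haveILetI false
set_option backward.isDefEq.respectTransparency false
set_option backward.isDefEq.respectTransparency.types false
set_option maxHeartbeats 1000000
universe u
open CategoryTheory CategoryTheory.Limits AlgebraicGeometry TopologicalSpace Opposite HomologicalComplex
open Groth.Agent.H23.PicMul
attribute [local instance] HasDerivedCategory.standard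

noncomputable section

namespace Groth.Agent.PnOverVan
open Groth.Agent Groth.Agent.AmpleX Groth.Agent.CMReg7

variable {n : ℕ} {T : Scheme.{u}}

/-- A map is zero if it dies in the direct images of all its positive twists. -/
theorem eq_zero_of_push_twists {F W : (KRR.PY n T).Modules} (hF : Coh.IsQCoh F) (u : F ⟶ W)
    (hk : ∀ q : ℕ, 0 < q → (Scheme.Modules.pushforward (KRR.pr n T)).map
      (((DCoh.tensorBi (X := KRR.PY n T)).obj (Twist.twistOver n T (q : ℤ))).map u) = 0) : u = 0 := by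
  let p := KRR.pr n T
  refine HomShX.ext_stalk fun y => ?_
  rw [HomShX.stalkMapₗ_zero]
  obtain ⟨_, ⟨U, hU, rfl⟩, hyU, -⟩ :=
    T.isBasis_affineOpens.exists_subset_of_mem_open (Set.mem_univ (p y)) isOpen_univ
  let W₀ := p ⁻¹ᵁ U
  have hy : (toZ n T) y ∈ ⨆ j, PnCoh.Finite.D (CohB1.polyGrading n (ULift.{u} ℤ)) (ProjGen7.coord' n (ULift.{u} ℤ) j) :=
    ProjGen7.iSup_coord' n (ULift.{u} ℤ) ▸ TopologicalSpace.Opens.mem_top _
  obtain ⟨⟨j⟩, hyj⟩ := TopologicalSpace.Opens.mem_iSup.1 hy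
  obtain ⟨σ, hσ⟩ := exists_coord_section (n := n) (T := T) j
  have hL := RegSheaf7.isInvertible_twistOver (n := n) (T := T) 1
  let G := CohB1.genLocus _ σ
  haveI : IsProper (CohB1.ProjSpace.toSpec n (ULift.{u} ℤ)) := PnCoh.Chow.isProper_toSpec n _
  haveI : IsProper p := MorphismProperty.pullback_snd _ _ inferInstance
  haveI hUq : QuasiSeparatedSpace (U : Scheme.{u}) := by
    haveI : IsAffine (U : Scheme.{u}) := hU
    infer_instance
  have hWc : IsCompact (W₀ : Set (KRR.PY n T)) := QuasiCompact.isCompact_preimage _ U.2 hU.isCompact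
  have hWq : IsQuasiSeparated (W₀ : Set (KRR.PY n T)) :=
    (isQuasiSeparated_iff_quasiSeparatedSpace _ W₀.2).2 (quasiSeparatedSpace_of_quasiSeparated (p ∣_ U))
  have hGaff : IsAffineOpen (G ⊓ W₀) := by
    let D := Proj.basicOpen (CohB1.polyGrading n (ULift.{u} ℤ)) (ProjGen7.coord' n (ULift.{u} ℤ) (ULift.up j))
    haveI : IsAffine (D : Scheme.{u}) :=
      Proj.isAffineOpen_basicOpen _ _ (ProjGen7.coord'_mem n (ULift.{u} ℤ) (ULift.up j)) one_pos
    have hpb : IsPullback (toZ n T ∣_ D) ((toZ n T ⁻¹ᵁ D).ι ≫ p)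
        (D.ι ≫ CohB1.ProjSpace.toSpec n (ULift.{u} ℤ)) (specULiftZIsTerminal.from T) :=
      (isPullback_morphismRestrict (toZ n T) D).paste_vert (IsPullback.of_hasPullback _ _)
    haveI : IsAffineHom (D.ι ≫ CohB1.ProjSpace.toSpec n (ULift.{u} ℤ)) := inferInstance
    haveI : IsAffineHom ((toZ n T ⁻¹ᵁ D).ι ≫ p) :=
      MorphismProperty.of_isPullback hpb ‹_›
    have h := (hU.preimage ((toZ n T ⁻¹ᵁ D).ι ≫ p)).image_of_isOpenImmersion (toZ n T ⁻¹ᵁ D).ι
    rw [Scheme.Hom.comp_preimage, Scheme.Hom.image_preimage_eq_opensRange_inf, Scheme.Opens.opensRange_ι] at h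
    rw [show G = toZ n T ⁻¹ᵁ D from hσ]
    exact h
  have hyG : y ∈ G ⊓ W₀ := ⟨by show y ∈ CohB1.genLocus _ σ; rw [hσ]; exact hyj, hyU⟩
  refine LinearMap.ext_on_range (v := fun t : Γ(F, G ⊓ W₀) => F.presheaf.germ (G ⊓ W₀) y hyG t) ?_ fun t => ?_
  · letI := QCoh.stalkAlg (X := KRR.PY n T) hyG
    letI := QCoh.stalkModule F hyG
    haveI := QCoh.isScalarTower_stalk F hyG
    haveI := QCoh.isLocalization_stalk' hGaff hyG
    haveI := QCoh.isLocalizedModule_germLin hF hGaff hyG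
    have h1 : Submodule.localized' ((KRR.PY n T).presheaf.stalk y) (hGaff.primeIdealOf ⟨y, hyG⟩).asIdeal.primeCompl
        (QCoh.germLin F hyG) (Submodule.span Γ(KRR.PY n T, G ⊓ W₀) (Set.range (id : Γ(F, G ⊓ W₀) → Γ(F, G ⊓ W₀)))) = ⊤ := by
      rw [Set.range_id, Submodule.span_univ, Submodule.localized'_top]
    rw [Submodule.localized'_span, ← Set.range_comp] at h1
    exact h1
  suffices h : u.app (G ⊓ W₀) t = 0 by
    refine (RefHull.stalkMapₗ_germ u y hyG t).trans ?_
    rw [h, map_zero]; rfl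
  obtain ⟨n₀, hn₀⟩ := exists_extend_within W₀ hWc hWq hF hL σ t
  obtain ⟨T₀, hT₀⟩ := hn₀ (n₀ + 1) n₀.le_succ
  generalize hN : n₀ + 1 = N at T₀ hT₀
  let P := CohB1.tensorPow (Twist.twistOver n T 1) N
  obtain ⟨eP⟩ : Nonempty (Twist.twistOver n T (N : ℤ) ≅ P) := H23.PicMul.cl_eq_iff.1 (by
    rw [H23.PicMul.cl_tensorPow, cl_twistOver_pow])
  let θ : (DCoh.tensorBi (X := KRR.PY n T)).obj (Twist.twistOver n T (N : ℤ)) ≅ AmpleVan.tw P :=
    ((KFlatLib.tensorBiFlipIso (KRR.PY n T)).app (Twist.twistOver n T (N : ℤ))).symm ≪≫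
      (DCoh.tensorBi (X := KRR.PY n T)).flip.mapIso eP
  have h3 : ((AmpleVan.tw P).map u).app W₀ T₀ = 0 := by
    have e : (Scheme.Modules.pushforward p).map ((AmpleVan.tw P).map u) = 0 := by
      rw [show (AmpleVan.tw P).map u = θ.inv.app F ≫
        ((DCoh.tensorBi (X := KRR.PY n T)).obj (Twist.twistOver n T (N : ℤ))).map u ≫ θ.hom.app W from
        (NatIso.naturality_1 θ u).symm, Functor.map_comp, Functor.map_comp, hk N (by omega), zero_comp, comp_zero]
    exact congr(($e).app U T₀)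
  have h4 := congrArg (AModX.res _ (inf_le_right : G ⊓ W₀ ≤ W₀)) h3
  rw [← AModX.app_res, map_zero] at h4
  erw [hT₀, AmpleFam7.twMap_app_tmul] at h4
  have hfr0 : InvX.IsFrame (AModX.res _ (le_top : G ⊓ W₀ ≤ ⊤) (InvX.one σ)) := by
    have := (AmpleX.res_genLocus_frame σ).res (inf_le_left : G ⊓ W₀ ≤ G)
    rwa [AModX.res_res] at this
  apply (FlatTwist.bijective_tmul_frame (M := W) (AmpleX.isFrame_powElt hfr0 N) (le_refl (G ⊓ W₀))).1
  simp only [AModX.res_self]
  refine h4.trans ?_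
  have := InvX.tmul_smul_left (0 : Γ(KRR.PY n T, G ⊓ W₀)) (0 : Γ(W, G ⊓ W₀))
    (powElt (AModX.res (Twist.twistOver n T 1) (le_top : G ⊓ W₀ ≤ ⊤) (InvX.one σ)) N)
  rw [zero_smul, zero_smul] at this
  exact this.symm


/-- Every quasi-coherent module is a quotient of a sum of twisted pullbacks. -/
theorem exists_epi_coprod (F : (KRR.PY n T).Modules) (hF : Coh.IsQCoh F) :
    ∃ (ι : Type u) (G : ι → T.Modules) (m : ι → ℕ)
      (q : (∐ fun j => CohB1.tensorMod ((Scheme.Modules.pullback (KRR.pr n T)).obj (G j))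
        (Twist.twistOver n T (-((m j : ℕ) : ℤ)))) ⟶ F),
      (∀ j, Coh.IsQCoh (G j)) ∧ (∀ j, 0 < m j) ∧ Epi q := by
  let p := KRR.pr n T
  let adj := Scheme.Modules.pullbackPushforwardAdjunction p
  haveI : IsProper (CohB1.ProjSpace.toSpec n (ULift.{u} ℤ)) := PnCoh.Chow.isProper_toSpec n _
  haveI : IsProper p := MorphismProperty.pullback_snd _ _ inferInstance
  let Tw : ℕ → ((KRR.PY n T).Modules ⥤ (KRR.PY n T).Modules) := fun q =>
    (DCoh.tensorBi (X := KRR.PY n T)).obj (Twist.twistOver n T ((q + 1 : ℕ) : ℤ))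
  haveI hE : ∀ q, (Tw q).IsEquivalence := fun q => by
    haveI := AmpleVan.isEquivalence_tw (RegSheaf7.isInvertible_twistOver (n := n) (T := T) ((q + 1 : ℕ) : ℤ))
    exact Functor.isEquivalence_of_iso ((KFlatLib.tensorBiFlipIso (KRR.PY n T)).app
      (Twist.twistOver n T ((q + 1 : ℕ) : ℤ)) : AmpleVan.tw (Twist.twistOver n T ((q + 1 : ℕ) : ℤ)) ≅ _)
  let G : ULift.{u} ℕ → T.Modules := fun q => (Scheme.Modules.pushforward p).obj ((Tw q.down).obj F)
  let A : ULift.{u} ℕ → (KRR.PY n T).Modules := fun q =>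
    CohB1.tensorMod ((Scheme.Modules.pullback p).obj (G q)) (Twist.twistOver n T (-((q.down + 1 : ℕ) : ℤ)))
  have hj : ∀ q, Nonempty ((Tw q.down).obj (A q) ≅ (Scheme.Modules.pullback p).obj (G q)) := fun q =>
    H23.PicMul.cl_eq_iff.1 (by
      show PicF.cl (CohB1.tensorMod _ _) = _
      rw [H23.PicMul.cl_tensor]
      show _ * PicF.cl (CohB1.tensorMod _ _) = _
      rw [H23.PicMul.cl_tensor, mul_comm (PicF.cl ((Scheme.Modules.pullback p).obj (G q))), ← mul_assoc,
        RegSheaf7.cl_twistOver_add, add_neg_cancel, CMReg7.cl_twistOver_zero, one_mul])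
  let φ : ∀ q, A q ⟶ F := fun q => (Tw q.down).preimage ((hj q).some.hom ≫ adj.counit.app ((Tw q.down).obj F))
  refine ⟨ULift.{u} ℕ, G, fun q => q.down + 1, Sigma.desc φ, fun q => ?_, fun q => Nat.succ_pos _, ?_⟩
  · exact QCoh.isQCoh_pushforward p
      (KFlatLib.isQCoh_tensor (ProjUPX.isQCoh_of_isInvertible (RegSheaf7.isInvertible_twistOver _)) hF)
  refine Preadditive.epi_of_cancel_zero _ fun {W} u hu => eq_zero_of_push_twists hF u fun m hm => ?_
  obtain ⟨k, rfl⟩ := Nat.exists_eq_add_of_le' hm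
  have h0 : φ ⟨k⟩ ≫ u = 0 := by
    have h := congrArg (Sigma.ι A ⟨k⟩ ≫ ·) hu
    simpa only [Sigma.ι_desc_assoc, comp_zero] using h
  haveI : (Tw k).Additive := Functor.additive_of_preserves_binary_products _
  have h1 := congrArg (Tw k).map h0
  rw [Functor.map_comp, Functor.map_zero] at h1
  erw [Functor.map_preimage, Category.assoc] at h1
  replace h1 := (cancel_epi (hj ⟨k⟩).some.hom).1 (h1.trans comp_zero.symm)
  have h2 := congrArg (fun ψ => adj.unit.app _ ≫ (Scheme.Modules.pushforward p).map ψ) h1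
  simp only [Functor.map_comp, Functor.map_zero, comp_zero] at h2
  erw [adj.right_triangle_components_assoc] at h2
  exact h2

end Groth.Agent.PnOverVan
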