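import Groth.Agent.PnOverVan.Twist
import Groth.Agent.KFlatLib.Scheme.TildePush
import Groth.Agent.AVDegPoly.Pullback
import Groth.Agent.FlatBC6.Zero
import Groth.Agent.QCoh.AffineCohom
import Mathlib.Algebra.TrivSqZeroExt.Basic

/-!
# Cohomology of `O(d) ⊗ π^*N~` on `P^n_A` by trivial square-zero extension

`O(d) ⊗ π^*N~` is a direct summand of the direct image of `O(d)` from `P^n` over `A ⊕ N`.
-/

set_option autoImplicit false
set_option linter.style.haveILetI false
set_option backward.isDefEq.respectTransparency false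
set_option backward.isDefEq.respectTransparency.types false
set_option maxHeartbeats 1000000
universe u
open CategoryTheory CategoryTheory.Limits AlgebraicGeometry TopologicalSpace Opposite
open scoped Groth.Agent.H23.PicMul

namespace Groth.Agent.PnOverVan

open Groth.Agent

theorem subsingleton_HH_of_section {X : Scheme.{u}} {M N : X.Modules} (s : M ⟶ N) (r : N ⟶ M)
    (h : s ≫ r = 𝟙 M) (i : ℕ) (hN : Subsingleton (Coh.HH X N i)) : Subsingleton (Coh.HH X M i) := by
  let F : CategoryTheory.Sheaf (Opens.grothendieckTopology X) AddCommGrpCat.{u} ⥤ AddCommGrpCat.{u} :=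
    Sheaf.functorH.{u, u, u, u} (Opens.grothendieckTopology X) i
  haveI : Subsingleton (F.obj ((QCoh.toAbFunctor X).obj N)) := hN
  have hh : F.map ((QCoh.toAbFunctor X).map s) ≫ F.map ((QCoh.toAbFunctor X).map r) = 𝟙 _ := by
    rw [← Functor.map_comp, ← Functor.map_comp, h, CategoryTheory.Functor.map_id, CategoryTheory.Functor.map_id]
  refine (subsingleton_of_forall_eq 0 fun x => ?_ : Subsingleton (F.obj ((QCoh.toAbFunctor X).obj M)))
  have e := congr($hh x)
  rw [ConcreteCategory.comp_apply, Subsingleton.elim (F.map ((QCoh.toAbFunctor X).map s) x) 0, map_zero] at e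
  exact e.symm

attribute [local instance] HasDerivedCategory.standard

theorem subsingleton_HH_pullTwist (n : ℕ) (A : Type u) [CommRing A] (d : ℤ) (i : ℕ)
    (h : ∀ (B : Type u) [CommRing B],
      Subsingleton (Coh.HH (CohB1.ProjSpace n B) (Twist.twistProjSpace n B d) i))
    (N : ModuleCat.{u} A) :
    Subsingleton (Coh.HH (CohB1.ProjSpace n A) ((CMReg7.pullTwist n A d).obj N) i) := by
  letI : Module Aᵐᵒᵖ N := Module.compHom _ ((RingHom.id A).fromOpposite mul_comm)
  haveI : IsCentralScalar A N := ⟨fun _ _ => rfl⟩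
  let B := TrivSqZeroExt A N
  let φ : A →+* B := algebraMap A B
  let g : CommRingCat.of A ⟶ CommRingCat.of B := CommRingCat.ofHom φ
  let π := CohB1.ProjSpace.toSpec n A
  let π' := CohB1.ProjSpace.toSpec n B
  let c := ProjX.pmap n φ
  let f := Spec.map g
  have hsq : IsPullback c π' π f := ProjX.isPullback_pmap n φ
  haveI : Flat π := CMReg7.flat_toSpec n A
  haveI : IsAffineHom f := inferInstance
  haveI : IsAffineHom c := MorphismProperty.of_isPullback hsq.flip ‹_›
  let L := Twist.twistProjSpace n A d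
  have hL : PicF.IsInvertible L := PnCoh.Finite.isInvertible_twist (ProjGen7.coord' n A)
    (ProjGen7.coord'_mem n A) (ProjGen7.iSup_coord' n A) d
  -- the direct image of `O` from `Spec B`
  haveI := FlatBC6.isIso_bc0_flat (g := π) hsq.flip (QCoh.isQCoh_structureModule (X := Spec (CommRingCat.of B)))
  let R : ModuleCat.{u} A := (ModuleCat.restrictScalars.{u} g.hom).obj (ModuleCat.of B B)
  let eO : (Coh.push c).obj (Coh.structureModule _) ≅
      (Scheme.Modules.pullback π).obj ((tilde.functor (CommRingCat.of A)).obj R) :=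
    (Coh.push c).mapIso (PicClLib.nonempty_pullback_structureModule π').some.symm ≪≫
      (asIso (CohBC.bc0 f π c π' hsq.flip.w (Coh.structureModule _))).symm ≪≫
      (Scheme.Modules.pullback π).mapIso ((Scheme.Modules.pushforward f).mapIso tildeSelf.symm ≪≫
        (KFlatLib.pushTildeIso g).app (ModuleCat.of B B))
  -- the direct image of `O(d)`
  obtain ⟨eL⟩ := CMReg7.nonempty_pullback_twist n φ d
  have hflf : FlatMod.IsFinLocFree L := KPE7.flf_inv hL
  obtain ⟨eP⟩ := AVDegPoly.nonempty_push_tensor c L hflf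
  let e : (Coh.push c).obj (Twist.twistProjSpace n B d) ≅ (CMReg7.pullTwist n A d).obj R :=
    (Coh.push c).mapIso eL.symm ≪≫ eP ≪≫ PicGrp.tensorModIso (Iso.refl L) eO
  have hR : Subsingleton (Coh.HH _ ((CMReg7.pullTwist n A d).obj R) i) := by
    refine QCoh.subsingleton_HH_of_iso e i ?_
    obtain ⟨a⟩ := QCoh.HH_push_of_isAffineHom c
      (M := Twist.twistProjSpace n B d) (ProjUPX.isQCoh_of_isInvertible (PnCoh.Finite.isInvertible_twist
        (ProjGen7.coord' n B) (ProjGen7.coord'_mem n B) (ProjGen7.iSup_coord' n B) d)) i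
    haveI := h B
    exact a.symm.toEquiv.subsingleton
  let s : N ⟶ R := ModuleCat.ofHom (Y := (R : Type u))
    { toFun := fun x => (TrivSqZeroExt.inr x : B)
      map_add' := fun x y => TrivSqZeroExt.inr_add A x y
      map_smul' := fun a x => by
        show TrivSqZeroExt.inr (a • x) = φ a * TrivSqZeroExt.inr x
        rw [TrivSqZeroExt.inr_smul, Algebra.smul_def] }
  let r : R ⟶ N := ModuleCat.ofHom (X := (R : Type u))
    { toFun := fun x => TrivSqZeroExt.snd (show B from x)
      map_add' := fun x y => TrivSqZeroExt.snd_add _ _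
      map_smul' := fun a x => by
        show TrivSqZeroExt.snd (φ a * (show B from x)) = a • _
        rw [← Algebra.smul_def, TrivSqZeroExt.snd_smul] }
  have hsr : s ≫ r = 𝟙 N := by
    ext x
    exact TrivSqZeroExt.snd_inr A x
  exact subsingleton_HH_of_section ((CMReg7.pullTwist n A d).map s) ((CMReg7.pullTwist n A d).map r)
    (by rw [← Functor.map_comp, hsr, CategoryTheory.Functor.map_id]) i hR

/-- `R^i p_*(p^*G(d)) = 0` for `d < 0` and `i ≠ n`. -/
theorem isZero_RpushAb_twF_pullback (n : ℕ) (T : Scheme.{u}) (d : ℤ) (hd : d < 0) (G : T.Modules)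
    (hG : Coh.IsQCoh G) (i : ℕ) (hi : i ≠ n) :
    IsZero ((Coh.RpushAb (KRR.pr n T) i).obj
      (Coh.toAb (KRR.twF n T d ((Scheme.Modules.pullback (KRR.pr n T)).obj G)))) := by
  let p := KRR.pr n T
  let M := KRR.twF n T d ((Scheme.Modules.pullback p).obj G)
  have hM : Coh.IsQCoh M :=
    KFlatLib.isQCoh_tensor (ProjUPX.isQCoh_of_isInvertible (RegSheaf7.isInvertible_twistOver d))
      (QCoh.isQCoh_pullback p hG)
  have hvan : ∀ (V : T.Opens) (hV : IsAffineOpen V),
      Subsingleton (Coh.HH (CohB1.ProjSpace n Γ(T, V)) ((Scheme.Modules.pullback (ProjX.chart n hV)).obj M) i) := by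
    intro V hV
    let A := Γ(T, V)
    let π := CohB1.ProjSpace.toSpec n A
    let c := ProjX.chart n hV
    obtain ⟨N, ⟨eN⟩⟩ : ∃ N : ModuleCat.{u} A,
        Nonempty ((Scheme.Modules.pullback hV.fromSpec).obj G ≅ (tilde.functor A).obj N) := by
      obtain ⟨N, ⟨j⟩⟩ := QCoh.isQCoh_spec_iff.1 (QCoh.isQCoh_pullback hV.fromSpec hG)
      exact ⟨N, ⟨j.symm⟩⟩
    obtain ⟨e₁⟩ := H23.PicMul.pull c (Twist.twistOver n T d) ((Scheme.Modules.pullback p).obj G)
    obtain ⟨e₂⟩ := CMReg7.nonempty_pullback_twist n (ProjX.zto A) d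
    let eL : (Scheme.Modules.pullback c).obj (Twist.twistOver n T d) ≅ Twist.twistProjSpace n A d :=
      (Scheme.Modules.pullbackComp c _).app _ ≪≫
        (Scheme.Modules.pullbackCongr (ProjX.chart_fst n hV)).app _ ≪≫ e₂
    let eG : (Scheme.Modules.pullback c).obj ((Scheme.Modules.pullback p).obj G) ≅
        (Scheme.Modules.pullback π).obj ((tilde.functor A).obj N) :=
      (Scheme.Modules.pullbackComp c p).app _ ≪≫
        (Scheme.Modules.pullbackCongr (ProjX.chart_toBase n hV)).app _ ≪≫
        ((Scheme.Modules.pullbackComp π hV.fromSpec).app _).symm ≪≫ (Scheme.Modules.pullback π).mapIso eN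
    obtain ⟨e₃⟩ : Nonempty ((Scheme.Modules.pullback c).obj M ≅ (CMReg7.pullTwist n A d).obj N) := by
      refine H23.PicMul.cl_eq_iff.1 ?_
      show PicF.cl _ = PicF.cl (CohB1.tensorMod (Twist.twistProjSpace n A d) _)
      exact (H23.PicMul.cl_eq_iff.2 ⟨e₁⟩).trans ((H23.PicMul.cl_tensor _ _).trans
        ((congrArg₂ (· * ·) (H23.PicMul.cl_eq_iff.2 ⟨eL⟩) (H23.PicMul.cl_eq_iff.2 ⟨eG⟩)).trans
          (H23.PicMul.cl_tensor _ _).symm))
    exact QCoh.subsingleton_HH_of_iso e₃.symm i (subsingleton_HH_pullTwist n A d i (fun B _ =>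
      Groth.Agent.S0844.result B n d i (fun h => absurd h.2 (not_le.2 hd)) (fun h => hi h.1)) N)
  cases i with
  | zero => exact isZero_push_of_charts n T hM hvan
  | succ q => exact CMReg7.isZero_RpushAb_of_charts n T hM q hvan

/-- coproducts, for functors commuting with filtered colimits -/
theorem isZero_map_coprod {ι' : Type u} {C D : Type*} [Category.{u} C] [Category D] [Preadditive D] [HasFiniteCoproducts C]
    [HasColimitsOfShape (Discrete.{u} ι') C] [HasColimitsOfShape (Finset (Discrete.{u} ι')) C] (F : C ⥤ D) [PreservesFiniteCoproducts F]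
    [PreservesColimitsOfShape (Finset (Discrete.{u} ι')) F] (f : ι' → C) (hf : ∀ j, IsZero (F.obj (f j))) :
    IsZero (F.obj (∐ f)) := by
  have hc := CoproductsFromFiniteFiltered.isColimitFiniteSubproductsCocone f
  have hc' := isColimitOfPreserves F hc
  rw [IsZero.iff_id_eq_zero]
  refine hc'.hom_ext fun s => (IsZero.eq_of_src ?_ _ _)
  show IsZero (F.obj (∐ fun x : s => f x.1.as))
  rw [IsZero.iff_id_eq_zero]
  refine (isColimitCofanMkObjOfIsColimit F _ _ (coproductIsCoproduct _)).hom_ext fun x => ?_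
  exact (hf _).eq_of_src _ _

end Groth.Agent.PnOverVan
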