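import Groth.Agent.KPE7.Serre
import Groth.Agent.KPE7.Transfer
import Groth.Agent.CMReg7.PullVanish
import Groth.Agent.S0844

/-!
# `R^i p_* O(d) = 0` on `P^n_T` outside the exceptional degrees
-/

set_option autoImplicit false
set_option linter.style.haveILetI false
set_option backward.isDefEq.respectTransparency false
set_option backward.isDefEq.respectTransparency.types false
set_option maxHeartbeats 800000
universe u
open CategoryTheory CategoryTheory.Limits AlgebraicGeometry TopologicalSpace Opposite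
attribute [local instance] HasDerivedCategory.standard

namespace Groth.Agent.PnOverVan

open Groth.Agent

variable {X Y : Scheme.{u}}

/-- degree zero cohomology and global sections -/
theorem subsingleton_HH_zero_iff (M : X.Modules) :
    Subsingleton (Coh.HH X M 0) ↔ Subsingleton Γ(M, ⊤) :=
  (CategoryTheory.Sheaf.H.equiv₀ (Coh.toAb M) isTerminalTop).toEquiv.subsingleton_congr

/-- sections of a pullback along an isomorphism -/
theorem subsingleton_top_pullback_iso (h : X ⟶ Y) [IsIso h] (M : Y.Modules) (hs : Subsingleton Γ(M, ⊤)) :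
    Subsingleton Γ((Scheme.Modules.pullback h).obj M, ⊤) := by
  let e := (Scheme.Modules.restrictFunctorIsoPullback h).app M
  have hR : Subsingleton Γ((Scheme.Modules.restrictFunctor h).obj M, ⊤) := by
    show Subsingleton Γ(M, h ''ᵁ ⊤)
    rw [Scheme.Hom.image_top_eq_opensRange, Scheme.Hom.opensRange_of_isIso]
    exact hs
  exact (ConcreteCategory.bijective_of_isIso (e.hom.app ⊤)).2.subsingleton

/-- vanishing of the direct image, checked on charts -/
theorem isZero_push_of_charts (n : ℕ) (T : Scheme.{u}) {M : (KRR.PY n T).Modules} (hM : Coh.IsQCoh M)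
    (h : ∀ (V : T.Opens) (hV : IsAffineOpen V),
      Subsingleton (Coh.HH (CohB1.ProjSpace n Γ(T, V)) ((Scheme.Modules.pullback (ProjX.chart n hV)).obj M) 0)) :
    IsZero ((Coh.RpushAb (KRR.pr n T) 0).obj (Coh.toAb M)) := by
  let p := KRR.pr n T
  haveI : IsProper (CohB1.ProjSpace.toSpec n (ULift.{u} ℤ)) := PnCoh.Chow.isProper_toSpec n _
  haveI : IsProper p := MorphismProperty.pullback_snd _ _ inferInstance
  obtain ⟨e⟩ := QCoh.nonempty_RpushAb_zero_iso p M
  refine IsZero.of_iso ((QCoh.toAbFunctor T).map_isZero ?_) e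
  refine QCoh.isZero_of_app_eq_zero (QCoh.isQCoh_pushforward p hM) fun V => ?_
  obtain ⟨V, hV⟩ := V
  suffices hs : Subsingleton Γ(M, p ⁻¹ᵁ V) from fun x => hs.elim x _
  let A := Γ(T, V)
  let π := CohB1.ProjSpace.toSpec n A
  let c := ProjX.chart n hV
  let b : Spec A ≅ (V : Scheme.{u}) := hV.isoSpec.symm
  have hb : hV.fromSpec = b.hom ≫ V.ι := rfl
  have h₂ : IsPullback (p ⁻¹ᵁ V).ι (p ∣_ V) p V.ι := (isPullback_morphismRestrict p V).flip
  have h₃ : IsPullback c (π ≫ b.hom) p V.ι :=
    IsPullback.of_iso (ProjX.isPullback_chart n hV) (Iso.refl _) (Iso.refl _) b (Iso.refl _)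
      (by simp [c]) (by simp [π]; rfl) (by simp [p]) (by rw [hb]; simp)
  let e' := h₂.isoIsPullback _ _ h₃
  have he : e'.hom ≫ c = (p ⁻¹ᵁ V).ι := h₂.isoIsPullback_hom_fst _ _ h₃
  have h0 := subsingleton_top_pullback_iso e'.hom _ ((subsingleton_HH_zero_iff _).1 (h V hV))
  let φ : (Scheme.Modules.pullback e'.hom).obj ((Scheme.Modules.pullback c).obj M) ≅
      (Scheme.Modules.restrictFunctor (p ⁻¹ᵁ V).ι).obj M := (Scheme.Modules.pullbackComp e'.hom c).app M ≪≫ (Scheme.Modules.pullbackCongr he).app M ≪≫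
    ((Scheme.Modules.restrictFunctorIsoPullback (p ⁻¹ᵁ V).ι).app M).symm
  have h1 : Subsingleton Γ((Scheme.Modules.restrictFunctor (p ⁻¹ᵁ V).ι).obj M, ⊤) := by
    haveI := h0
    exact (ConcreteCategory.bijective_of_isIso (φ.hom.app ⊤)).2.subsingleton
  have h2 : Subsingleton Γ(M, (p ⁻¹ᵁ V).ι ''ᵁ ⊤) := h1
  rwa [Scheme.Opens.ι_image_top] at h2

/-- `R^i p_* O(d) = 0` except for `i = 0 ≤ d` and `i = n`, `d ≤ -n-1` -/
theorem isZero_RpushAb_twistOver (T : Scheme.{u}) (n i : ℕ) (d : ℤ)
    (h : ¬ ((i = 0 ∧ 0 ≤ d) ∨ (i = n ∧ d ≤ -((n : ℤ) + 1)))) :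
    IsZero ((Coh.RpushAb (KRR.pr n T) i).obj (Coh.toAb (Twist.twistOver n T d))) := by
  have hM : Coh.IsQCoh (Twist.twistOver n T d) :=
    ProjUPX.isQCoh_of_isInvertible (RegSheaf7.isInvertible_twistOver d)
  have hvan : ∀ (V : T.Opens) (hV : IsAffineOpen V),
      Subsingleton (Coh.HH (CohB1.ProjSpace n Γ(T, V))
        ((Scheme.Modules.pullback (ProjX.chart n hV)).obj (Twist.twistOver n T d)) i) := fun V hV => by
    obtain ⟨e₂⟩ := CMReg7.nonempty_pullback_twist n (ProjX.zto Γ(T, V)) d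
    let eL : (Scheme.Modules.pullback (ProjX.chart n hV)).obj (Twist.twistOver n T d) ≅
        Twist.twistProjSpace n Γ(T, V) d :=
      (Scheme.Modules.pullbackComp _ _).app _ ≪≫
        (Scheme.Modules.pullbackCongr (ProjX.chart_fst n hV)).app _ ≪≫ e₂
    exact QCoh.subsingleton_HH_of_iso eL.symm i
      (Groth.Agent.S0844.result Γ(T, V) n d i (fun h' => h (.inl h')) (fun h' => h (.inr h')))
  cases i with
  | zero => exact isZero_push_of_charts n T hM hvan
  | succ q => exact CMReg7.isZero_RpushAb_of_charts n T hM q hvan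

end Groth.Agent.PnOverVan
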